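import Mathlib

/-!
Geometric sums `1 + σ + ⋯ + σ^(t-1)` for `σ ≡ 1 (mod p)`, `p` an odd prime: they have the `p`-adic
valuation of `t` and induce bijections modulo `p^e`.
-/

namespace Cfsg.Agent.Gen

/-- `1 + σ + ⋯ + σ^(t-1)` -/
def gs (σ t : ℕ) : ℕ := ∑ i ∈ Finset.range t, σ ^ i

theorem gs_zero (σ : ℕ) : gs σ 0 = 0 := rfl
theorem gs_one (σ : ℕ) : gs σ 1 = 1 := by simp [gs]
theorem gs_succ (σ t : ℕ) : gs σ (t + 1) = 1 + σ * gs σ t := by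
  rw [gs, Finset.sum_range_succ', pow_zero, add_comm, gs, Finset.mul_sum]
  simp [pow_succ']
theorem gs_add (σ s t : ℕ) : gs σ (s + t) = gs σ s + σ ^ s * gs σ t := by
  rw [gs, Finset.sum_range_add, gs, gs, Finset.mul_sum]
  simp [pow_add]
theorem pow_eq_gs {σ : ℕ} (h : 1 ≤ σ) (t : ℕ) : σ ^ t = 1 + (σ - 1) * gs σ t := by
  induction t with
  | zero => simp [gs]
  | succ t ih =>
    obtain ⟨r, rfl⟩ := Nat.exists_eq_add_of_le h
    rw [gs_succ, pow_succ, ih]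
    simp only [Nat.add_sub_cancel_left]; ring

variable {p : ℕ} [hp : Fact p.Prime] {σ : ℕ}

theorem one_le_of_modEq (h : σ ≡ 1 [MOD p]) : 1 ≤ σ := by
  rcases Nat.eq_zero_or_pos σ with rfl | h0
  · exact absurd ((Nat.modEq_zero_iff_dvd).1 h.symm) hp.out.not_dvd_one
  · exact h0

theorem not_dvd_of_modEq (h : σ ≡ 1 [MOD p]) : ¬ p ∣ σ := fun hd =>
  hp.out.one_lt.ne' (Nat.dvd_one.1 ((Nat.modEq_zero_iff_dvd).1
    (h.symm.trans ((Nat.modEq_zero_iff_dvd).2 hd))))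

theorem pow_dvd_gs (h2 : p ≠ 2) (h : σ ≡ 1 [MOD p]) (e t : ℕ) : p ^ e ∣ gs σ t ↔ p ^ e ∣ t := by
  rcases (one_le_of_modEq h).eq_or_lt with rfl | h1
  · simp [gs]
  have hd : p ∣ σ - 1 := (Nat.modEq_iff_dvd' h1.le).1 h.symm
  have key := Nat.emultiplicity_pow_sub_pow hp.out (hp.out.odd_of_ne_two h2) hd (not_dvd_of_modEq h) t
  rw [one_pow, pow_eq_gs h1.le, Nat.add_sub_cancel_left, hp.out.emultiplicity_mul] at key
  have hfin : emultiplicity p (σ - 1) ≠ ⊤ :=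
    finiteMultiplicity_iff_emultiplicity_ne_top.1 (Nat.finiteMultiplicity_iff.2 ⟨hp.out.one_lt.ne', by omega⟩)
  have := (WithTop.add_left_inj hfin).1 key
  rw [pow_dvd_iff_le_emultiplicity, pow_dvd_iff_le_emultiplicity]
  exact this ▸ Iff.rfl

theorem gs_modEq_iff (h2 : p ≠ 2) (h : σ ≡ 1 [MOD p]) (e s t : ℕ) :
    gs σ s ≡ gs σ t [MOD p ^ e] ↔ s ≡ t [MOD p ^ e] := by
  wlog hst : s ≤ t generalizing s t
  · rw [Nat.ModEq.comm, this t s (le_of_not_ge hst), Nat.ModEq.comm]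
  obtain ⟨r, rfl⟩ := Nat.exists_eq_add_of_le hst
  rw [gs_add, Nat.modEq_iff_dvd' (Nat.le_add_right _ _), Nat.modEq_iff_dvd' (Nat.le_add_right _ _),
    Nat.add_sub_cancel_left, Nat.add_sub_cancel_left, ← pow_dvd_gs h2 h e r]
  exact Nat.Coprime.dvd_mul_left (Nat.Coprime.pow _ _ ((Nat.Prime.coprime_iff_not_dvd hp.out).2
    (not_dvd_of_modEq h)))

theorem gs_bijective (h2 : p ≠ 2) (h : σ ≡ 1 [MOD p]) (e : ℕ) :
    Function.Bijective fun z : ZMod (p ^ e) => (gs σ z.val : ZMod (p ^ e)) := by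
  haveI : NeZero (p ^ e) := ⟨pow_ne_zero _ hp.out.ne_zero⟩
  refine Finite.injective_iff_bijective.1 fun x y hxy => ?_
  have := (gs_modEq_iff h2 h e _ _).1 ((ZMod.natCast_eq_natCast_iff _ _ _).1 hxy)
  rw [← ZMod.natCast_eq_natCast_iff] at this
  simpa using this

theorem exists_gs (h2 : p ≠ 2) (h : σ ≡ 1 [MOD p]) (e : ℕ) (z : ZMod (p ^ e)) :
    ∃ t : ℕ, (gs σ t : ZMod (p ^ e)) = z :=
  let ⟨y, hy⟩ := (gs_bijective h2 h e).2 z
  ⟨_, hy⟩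

theorem pow_dvd_sum_gs (h2 : p ≠ 2) (h : σ ≡ 1 [MOD p]) (e : ℕ) :
    p ^ e ∣ ∑ s ∈ Finset.range (p ^ e), gs σ s := by
  haveI : NeZero (p ^ e) := ⟨pow_ne_zero _ hp.out.ne_zero⟩
  rw [← ZMod.natCast_eq_zero_iff, Nat.cast_sum]
  have e1 : ∑ s ∈ Finset.range (p ^ e), (gs σ s : ZMod (p ^ e)) =
      ∑ z : ZMod (p ^ e), (gs σ z.val : ZMod (p ^ e)) := by
    refine (Finset.sum_bij (fun z _ => z.val) (fun z _ => Finset.mem_range.2 (ZMod.val_lt z))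
      (fun x _ y _ hxy => ZMod.val_injective _ hxy) (fun s hs => ⟨s, Finset.mem_univ _,
        ZMod.val_cast_of_lt (Finset.mem_range.1 hs)⟩) fun _ _ => rfl).symm
  have e2 : ∑ z : ZMod (p ^ e), (gs σ z.val : ZMod (p ^ e)) = ∑ z : ZMod (p ^ e), z :=
    (gs_bijective h2 h e).sum_comp id
  have e3 : ∑ z : ZMod (p ^ e), z = ∑ z : ZMod (p ^ e), -z := (Equiv.sum_comp (Equiv.neg _) id).symm
  rw [Finset.sum_neg_distrib, ← add_eq_zero_iff_eq_neg, ← two_mul] at e3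
  rw [e1, e2]
  have hu : IsUnit ((2 : ℕ) : ZMod (p ^ e)) := (ZMod.isUnit_iff_coprime _ _).2
    (Nat.Coprime.pow_right _ ((Nat.coprime_primes Nat.prime_two hp.out).2 h2.symm))
  exact (hu.mul_right_eq_zero).1 (by simpa using e3)

theorem gs_eq_add {σ : ℕ} (h : 1 ≤ σ) (t : ℕ) :
    gs σ t = t + (σ - 1) * ∑ s ∈ Finset.range t, gs σ s := by
  rw [gs, Finset.sum_congr rfl fun i _ => pow_eq_gs h i, Finset.sum_add_distrib, Finset.mul_sum]
  simp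

end Cfsg.Agent.Gen
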