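import Cfsg.Agent.BG.Base6
import Cfsg.Agent.Char.Second

/-!
Bimultiplicative pairings: a finite cyclic group embeds in `ℂˣ`; the left and right kernels of a
pairing with values in a cyclic group have the same index; commutator pairing of two subgroups
whose commutator is central and cyclic.  The commutator map of a cyclic extension of an abelian
normal subgroup.
-/

namespace Cfsg.Agent.Gen
open Cfsg.Agent.BG
open scoped commutatorElement

theorem exists_inj_units_of_cyclic (Z : Type*) [Group Z] [Finite Z] (h : IsCyclic Z) :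
    ∃ f : Z →* ℂˣ, Function.Injective f := by
  haveI : NeZero (Nat.card Z) := ⟨Nat.card_pos.ne'⟩
  have hc : Nat.card Z = Nat.card (rootsOfUnity (Nat.card Z) ℂ) := by
    rw [Complex.card_rootsOfUnity]
  let e := mulEquivOfCyclicCardEq hc
  exact ⟨(rootsOfUnity (Nat.card Z) ℂ).subtype.comp e.toMonoidHom,
    (Subgroup.subtype_injective _).comp e.injective⟩

theorem pairing_index_le {A B : Type*} [Group A] [Group B] [Finite B] (β : A →* (B →* ℂˣ))
    (K : Subgroup B) [K.Normal] (hK : ∀ a, ∀ b ∈ K, β a b = 1) : β.ker.index ≤ K.index := by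
  rw [Subgroup.index_ker]
  haveI : Finite (B ⧸ K →* ℂˣ) :=
    Nat.finite_of_card_ne_zero (by rw [Char.card_hom_units_complex]; exact Subgroup.index_ne_zero_of_finite)
  have h1 : Nat.card β.range ≤ Nat.card (B ⧸ K →* ℂˣ) := by
    refine Nat.card_le_card_of_injective
      (fun f => QuotientGroup.lift K f.1 (by obtain ⟨_, a, rfl⟩ := f; exact hK a)) ?_
    intro f g hfg
    ext b
    have := DFunLike.congr_fun hfg (b : B ⧸ K)
    simpa using congrArg Units.val this
  refine h1.trans ?_
  rw [Char.card_hom_units_complex]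
  exact Nat.le_of_dvd Nat.card_pos (Subgroup.index_dvd_card _)

variable {G : Type*} [Group G] {A B : Subgroup G}

theorem comm_mul_right' (a b c : G) : ⁅a, b * c⁆ = ⁅a, b⁆ * (b * ⁅a, c⁆ * b⁻¹) := by
  simp only [commutatorElement_def]; group

theorem comm_mul_left' (a b c : G) : ⁅a * b, c⁆ = a * ⁅b, c⁆ * a⁻¹ * ⁅a, c⁆ := by
  simp only [commutatorElement_def]; group

theorem comm_pairing_le [Finite G] (hA : A ≤ C[⁅A, B⁆]) (hB : B ≤ C[⁅A, B⁆]) (hc : IsCyclic ↥⁅A, B⁆) :
    C[B].relIndex A ≤ C[A].relIndex B := by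
  obtain ⟨f, hf⟩ := exists_inj_units_of_cyclic _ hc
  have hm : ∀ (a : A) (b : B), ⁅(a : G), (b : G)⁆ ∈ ⁅A, B⁆ := fun a b =>
    Subgroup.commutator_mem_commutator a.2 b.2
  let β : A →* (B →* ℂˣ) :=
    { toFun := fun a =>
        { toFun := fun b => f ⟨_, hm a b⟩
          map_one' := by rw [← f.map_one]; congr 1; ext; simp
          map_mul' := fun b b' => by
            rw [← f.map_mul]; congr 1; ext
            have := mem_cent.1 (hB b.2) _ (hm a b')
            simp only [Subgroup.coe_mul]
            rw [comm_mul_right', ← this, mul_inv_cancel_right] }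
      map_one' := by ext b; simp only [MonoidHom.coe_mk, OneHom.coe_mk, MonoidHom.one_apply]
                     rw [← f.map_one]; congr 2; ext; simp
      map_mul' := fun a a' => by
        ext b
        simp only [MonoidHom.coe_mk, OneHom.coe_mk, MonoidHom.mul_apply]
        rw [mul_comm, ← f.map_mul]; congr 2; ext
        have := mem_cent.1 (hA a.2) _ (hm a' b)
        simp only [Subgroup.coe_mul]
        rw [comm_mul_left', ← this, mul_inv_cancel_right] }
  have hβ : ∀ (a : A) (b : B), β a b = 1 ↔ (a : G) * b = b * a := fun a b => by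
    change f _ = 1 ↔ _
    rw [map_eq_one_iff f hf, Subtype.ext_iff]
    exact commutatorElement_eq_one_iff_mul_comm
  have hk : β.ker = C[B].subgroupOf A := by
    ext a
    rw [MonoidHom.mem_ker, Subgroup.mem_subgroupOf, mem_cent, MonoidHom.ext_iff]
    exact ⟨fun h b hb => ((hβ a ⟨b, hb⟩).1 (h _)).symm, fun h b => (hβ a b).2 (h b b.2).symm⟩
  haveI : (C[A].subgroupOf B).Normal := by
    have : C[A].subgroupOf B = β.flip.ker := by
      ext b
      rw [MonoidHom.mem_ker, Subgroup.mem_subgroupOf, mem_cent, MonoidHom.ext_iff]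
      exact ⟨fun h a => (hβ a b).2 (h a a.2), fun h a ha => (hβ ⟨a, ha⟩ b).1 (h _)⟩
    rw [this]; infer_instance
  have := pairing_index_le β (C[A].subgroupOf B) fun a b hb => (hβ a b).2 (mem_cent.1 hb a a.2)
  rwa [hk] at this

/-- the commutator pairing of two subgroups with central cyclic commutator -/
theorem comm_pairing [Finite G] (hA : A ≤ C[⁅A, B⁆]) (hB : B ≤ C[⁅A, B⁆]) (hc : IsCyclic ↥⁅A, B⁆) :
    C[B].relIndex A = C[A].relIndex B :=
  le_antisymm (comm_pairing_le hA hB hc)
    (comm_pairing_le (commGC A B ▸ hB) (commGC A B ▸ hA) (commGC A B ▸ hc))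

/-- `a ↦ [x, a]` on an abelian subgroup normalized by `x` -/
def commWith (hA : IsMulCommutative A) (x : G) (hx : x ∈ N[A]) : A →* G where
  toFun a := ⁅x, (a : G)⁆
  map_one' := by simp
  map_mul' a b := by
    have : (a : G) * ⁅x, (b : G)⁆ = ⁅x, (b : G)⁆ * a :=
      BG.IsMulCommutative.comm hA a.2 (mul_mem (conj_mem_of_norm hx b.2) (inv_mem b.2))
    simp only [Subgroup.coe_mul]
    rw [comm_mul_right', this, mul_inv_cancel_right]

theorem commWith_apply (hA : IsMulCommutative A) (x : G) (hx : x ∈ N[A]) (a : A) :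
    commWith hA x hx a = ⁅x, (a : G)⁆ := rfl

theorem commWith_ker (hA : IsMulCommutative A) (x : G) (hx : x ∈ N[A]) :
    (commWith hA x hx).ker = C1[x].subgroupOf A := by
  ext a
  rw [MonoidHom.mem_ker, Subgroup.mem_subgroupOf, mem_cent1, commWith_apply,
    commutatorElement_eq_one_iff_mul_comm, eq_comm]

theorem commWith_range (hA : IsMulCommutative A) (x : G) (hx : x ∈ N[A]) :
    (commWith hA x hx).range = ⁅A, Subgroup.zpowers x⁆ := by
  refine le_antisymm ?_ ?_
  · rintro _ ⟨a, rfl⟩
    rw [commGC]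
    exact Subgroup.commutator_mem_commutator (Subgroup.mem_zpowers x) a.2
  · set R := (commWith hA x hx).range
    have hRA : R ≤ A := by
      rintro _ ⟨a, rfl⟩
      exact mul_mem (conj_mem_of_norm hx a.2) (inv_mem a.2)
    have hAR : A ≤ N[R] := sub_abelian_norm hA hRA
    have hxR : x ∈ N[R] := by
      rw [Subgroup.mem_normalizer_iff]
      intro y
      constructor
      · rintro ⟨a, rfl⟩
        exact ⟨⟨_, conj_mem_of_norm hx a.2⟩, by simp only [commWith_apply, commutatorElement_def]; group⟩
      · rintro ⟨a, ha⟩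
        refine ⟨⟨_, conj_mem_of_norm' hx a.2⟩, ?_⟩
        have : y = x⁻¹ * (x * y * x⁻¹) * x := by group
        rw [this, ← ha]
        simp only [commWith_apply, commutatorElement_def]; group
    have hzR : Subgroup.zpowers x ≤ N[R] := by simpa using hxR
    rw [← quotient_cents2 hAR hzR, quotient_zpowers hxR, C_zpowers]
    intro z hz
    obtain ⟨a, ha, han, rfl⟩ := mem_quotient_iff.1 hz
    rw [mem_cent1, eq_comm, ← commutatorElement_eq_one_iff_mul_comm, ← coset_comm hxR han]
    exact coset_id ⟨⟨a, ha⟩, rfl⟩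

theorem card_comm_cyclic (hA : IsMulCommutative A) (x : G) (hx : x ∈ N[A]) :
    #(⁅A, Subgroup.zpowers x⁆ : Subgroup G) * #(A ⊓ C1[x] : Subgroup G) = #A := by
  rw [← commWith_range hA x hx, ← Subgroup.index_ker, commWith_ker, inf_comm, mul_comm]
  exact card_inf_mul_relIndex _ _

theorem der_abelian_cyclic (hA : IsMulCommutative A) (x : G) (hx : x ∈ N[A]) :
    ⁅A ⊔ Subgroup.zpowers x, A ⊔ Subgroup.zpowers x⁆ = ⁅A, Subgroup.zpowers x⁆ := by
  refine le_antisymm ?_ (commgSS le_sup_left le_sup_right)
  have h1 := commg_norml A (Subgroup.zpowers x)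
  have h2 := commg_normr A (Subgroup.zpowers x)
  refine der1_min (sup_le h1 h2) ?_
  rw [quotientY h1 h2]
  exact abelianY (quotient_abelian _ hA) (quotient_abelian _ (abelian_zpowers x))
    (quotient_cents2r le_rfl)

end Cfsg.Agent.Gen
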