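import Cfsg.Agent.BG4.Meta
import Cfsg.Agent.Gen.GeomP
import Cfsg.Agent.Gen.Pairing

/-!
Metacyclic `p`-groups, `p` odd.  Coordinates `θ : G → (ℤ/p^n)²` (`p^n = |G'|`) in which the
commutator is the standard symplectic form, subgroups go to additive subgroups and the fibres are
the cosets of the centre.  Consequences: centralizer duality, class sizes, `℧_s`, derived subgroups
of subgroups, and a factorization into two cyclic subgroups meeting trivially.
-/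

namespace Cfsg.Agent.Gen
open Cfsg.Agent.BG Subgroup
open scoped commutatorElement

/-- presentation data of a metacyclic `p`-group -/
structure MetaData (p : ℕ) (G : Type*) [Group G] where
  a : G
  b : G
  ρ : ℕ
  n : ℕ
  odd : p ≠ 2
  pg : IsPGroup p G
  gen : ∀ g, ∃ i j : ℕ, g = a ^ i * b ^ j
  conj : b * a * b⁻¹ = a ^ ρ
  hρ : ρ ≡ 1 [MOD p]
  ord : orderOf (a ^ (ρ - 1)) = p ^ n

variable {G : Type*} [Group G] [Finite G] {p : ℕ} [hp : Fact p.Prime]

theorem exists_metaData (h2 : p ≠ 2) (hG : IsPGroup p G) (h : IsMetacyclic G) :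
    Nonempty (MetaData p G) := by
  obtain ⟨a, b, hn, hs⟩ := BG4.metacyclic_gen (BG4.metacyclic_top.2 h)
  have gen : ∀ g, ∃ i j : ℕ, g = a ^ i * b ^ j := fun g => by
    obtain ⟨x, hx, y, hy, rfl⟩ := (mem_sup_norml (le_top.trans hn)).1 (hs ▸ trivial : g ∈ zpowers a ⊔ zpowers b)
    obtain ⟨i, rfl⟩ := (mem_powers_iff_mem_zpowers.2 hx)
    obtain ⟨j, rfl⟩ := (mem_powers_iff_mem_zpowers.2 hy)
    exact ⟨i, j, rfl⟩
  obtain ⟨ρ, hρ⟩ : ∃ ρ : ℕ, b * a * b⁻¹ = a ^ ρ ∧ ρ ≡ 1 [MOD p] := by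
    by_cases ha : a = 1
    · exact ⟨1, by simp [ha], rfl⟩
    obtain ⟨ρ, hρ⟩ := mem_powers_iff_mem_zpowers.2 (conj_mem_of_norm (hn (mem_top b)) (mem_zpowers a))
    refine ⟨ρ, hρ.symm, ?_⟩
    have h1 : ∀ j : ℕ, b ^ j * a * (b ^ j)⁻¹ = a ^ ρ ^ j := fun j => by
      induction j with
      | zero => simp
      | succ j ih =>
        calc b ^ (j + 1) * a * (b ^ (j + 1))⁻¹ = b ^ j * (b * a * b⁻¹) * (b ^ j)⁻¹ := by group
          _ = _ := by rw [← hρ]; simp only; rw [← conj_pow, ih, ← pow_mul, ← pow_succ]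
    obtain ⟨e, he⟩ := hG b
    obtain ⟨m, hm⟩ := (IsPGroup.iff_orderOf.1 hG) a
    have h3 := h1 (p ^ e)
    rw [he, one_mul, inv_one, mul_one] at h3
    have h4 : 1 ≡ ρ ^ p ^ e [MOD p ^ m] := by rw [← hm, ← pow_eq_pow_iff_modEq, pow_one]; exact h3
    have hm0 : m ≠ 0 := fun e => ha (orderOf_eq_one_iff.1 (by rw [hm, e, pow_zero]))
    have h5 := h4.of_dvd (dvd_pow_self p hm0)
    rw [← ZMod.natCast_eq_natCast_iff] at h5 ⊢
    rw [h5, Nat.cast_pow, ZMod.pow_card_pow]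
  obtain ⟨n, hn⟩ := (IsPGroup.iff_orderOf.1 hG) (a ^ (ρ - 1))
  exact ⟨⟨a, b, ρ, n, h2, hG, gen, hρ.1, hρ.2, hn⟩⟩

namespace MetaData
variable (D : MetaData p G)

/-- the generator `[b, a]` of the derived subgroup -/
def c : G := D.a ^ (D.ρ - 1)

theorem conj_pow (j i : ℕ) : D.b ^ j * D.a ^ i = D.a ^ (D.ρ ^ j * i) * D.b ^ j := by
  have h1 : ∀ j : ℕ, D.b ^ j * D.a * (D.b ^ j)⁻¹ = D.a ^ D.ρ ^ j := fun j => by
    induction j with
    | zero => simp
    | succ j ih =>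
      calc D.b ^ (j + 1) * D.a * (D.b ^ (j + 1))⁻¹ = D.b ^ j * (D.b * D.a * D.b⁻¹) * (D.b ^ j)⁻¹ := by group
        _ = _ := by rw [D.conj, ← _root_.conj_pow, ih, ← pow_mul, ← pow_succ]
  rw [pow_mul, ← h1, _root_.conj_pow]; group

theorem mul_coord (i j k l : ℕ) :
    D.a ^ i * D.b ^ j * (D.a ^ k * D.b ^ l) = D.a ^ (i + D.ρ ^ j * k) * D.b ^ (j + l) := by
  rw [mul_assoc, ← mul_assoc (D.b ^ j), D.conj_pow, pow_add, pow_add]; group

theorem comm_coord (i j k l : ℕ) :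
    ⁅D.a ^ i * D.b ^ j, D.a ^ k * D.b ^ l⁆ = D.c ^ ((k * gs D.ρ j : ℤ) - i * gs D.ρ l) := by
  have h1 := one_le_of_modEq D.hρ
  rw [commutatorElement_def, mul_assoc, ← mul_inv_rev, D.mul_coord, D.mul_coord, add_comm l j,
    pow_eq_gs h1 j, pow_eq_gs h1 l, c, ← zpow_natCast D.a (D.ρ - 1), ← zpow_mul]
  simp only [mul_inv_rev, mul_assoc, mul_inv_cancel_left]
  rw [← zpow_natCast, ← zpow_natCast, ← zpow_neg, ← zpow_add]
  congr 1
  push_cast; ring

theorem c_zpow_eq {s t : ℤ} : D.c ^ s = D.c ^ t ↔ (s : ZMod (p ^ D.n)) = t := by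
  rw [zpow_eq_zpow_iff_modEq, c, D.ord, ZMod.intCast_eq_intCast_iff]

/-- the coordinate space -/
abbrev V := ZMod (p ^ D.n) × ZMod (p ^ D.n)

instance instNeZeroMeta : NeZero (p ^ D.n) := ⟨pow_ne_zero _ hp.out.ne_zero⟩

/-- the coordinates of an element -/
noncomputable def θ (g : G) : D.V :=
  (((D.gen g).choose : ℕ), (gs D.ρ (D.gen g).choose_spec.choose : ℕ))

theorem θ_coord (i j : ℕ) : D.θ (D.a ^ i * D.b ^ j) = ((i : ZMod _), (gs D.ρ j : ZMod _)) := by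
  have h := (D.gen (D.a ^ i * D.b ^ j)).choose_spec.choose_spec
  have h1 := D.comm_coord i j 1 0
  have h2 := D.comm_coord i j 0 1
  rw [h, D.comm_coord, c_zpow_eq] at h1 h2
  simp only [gs_zero, gs_one] at h1 h2
  push_cast at h1 h2
  refine Prod.ext ?_ ?_
  · simpa [θ] using h2
  · simpa [θ] using h1

/-- the symplectic form -/
def ω (u v : D.V) : ZMod (p ^ D.n) := v.1 * u.2 - u.1 * v.2

theorem comm_eq (x y : G) : ⁅x, y⁆ = D.c ^ (D.ω (D.θ x) (D.θ y)).val := by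
  obtain ⟨i, j, rfl⟩ := D.gen x
  obtain ⟨k, l, rfl⟩ := D.gen y
  rw [D.comm_coord, ← zpow_natCast, c_zpow_eq, θ_coord, θ_coord]
  simp [ω]

theorem comm_iff (x y : G) : x * y = y * x ↔ D.ω (D.θ x) (D.θ y) = 0 := by
  rw [← commutatorElement_eq_one_iff_mul_comm, D.comm_eq, ← zpow_natCast, ← zpow_zero D.c, c_zpow_eq]
  simp

theorem commutator_eq : _root_.commutator G = zpowers D.c := by
  refine le_antisymm (commutator_le.2 fun x _ y _ => D.comm_eq x y ▸ npow_mem_zpowers _ _) ?_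
  have := D.comm_coord 0 1 1 0
  simp only [gs_zero, gs_one] at this
  rw [zpowers_le, show D.c = _ from by simpa using this.symm]
  exact commutator_mem_commutator (mem_top _) (mem_top _)

theorem card_commutator : Nat.card (_root_.commutator G) = p ^ D.n := by
  rw [D.commutator_eq, Nat.card_zpowers, c, D.ord]

theorem θ_mul (x : G) : ∃ σ : ℕ, σ ≡ 1 [MOD p] ∧ ∀ y, D.θ (x * y) = D.θ x + σ • D.θ y := by
  obtain ⟨i, j, rfl⟩ := D.gen x
  refine ⟨D.ρ ^ j, by simpa using D.hρ.pow j, fun y => ?_⟩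
  obtain ⟨k, l, rfl⟩ := D.gen y
  rw [D.mul_coord, θ_coord, θ_coord, θ_coord, gs_add]
  ext <;> simp

theorem θ_one : D.θ 1 = 0 := by
  have := D.θ_coord 0 0
  simp only [pow_zero, mul_one, gs_zero, Nat.cast_zero] at this
  exact this

theorem θ_pow (x : G) : ∃ σ : ℕ, σ ≡ 1 [MOD p] ∧ ∀ t, D.θ (x ^ t) = gs σ t • D.θ x := by
  obtain ⟨σ, hσ, h⟩ := D.θ_mul x
  refine ⟨σ, hσ, fun t => ?_⟩
  induction t with
  | zero => simp [θ_one, gs_zero]
  | succ t ih => rw [pow_succ', h, ih, gs_succ, add_smul, one_smul, mul_smul]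

theorem exists_pow (x : G) (z : ZMod (p ^ D.n)) : ∃ t : ℕ, D.θ (x ^ t) = z • D.θ x := by
  obtain ⟨σ, hσ, h⟩ := D.θ_pow x
  obtain ⟨t, rfl⟩ := exists_gs D.odd hσ D.n z
  exact ⟨t, by rw [h, Nat.cast_smul_eq_nsmul]⟩

theorem θ_surj : Function.Surjective D.θ := fun v => by
  obtain ⟨j, hj⟩ := exists_gs D.odd D.hρ D.n v.2
  exact ⟨D.a ^ v.1.val * D.b ^ j, by rw [θ_coord, hj]; simp⟩

theorem eq_zero_of_ω {u : D.V} (h : ∀ v, D.ω u v = 0) : u = 0 := by
  have h1 := h (1, 0)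
  have h2 := h (0, 1)
  simp only [ω] at h1 h2
  exact Prod.ext (by simpa using h2) (by simpa using h1)

theorem θ_eq_iff (x y : G) : D.θ x = D.θ y ↔ x⁻¹ * y ∈ center G := by
  have : x⁻¹ * y ∈ center G ↔ ∀ g : G, ⁅x, g⁆ = ⁅y, g⁆ := by
    rw [mem_center_iff]
    refine forall_congr' fun g => ?_
    simp only [commutatorElement_def, mul_left_inj]
    constructor
    · intro h
      calc x * g * x⁻¹ = x * (g * (x⁻¹ * y)) * y⁻¹ := by group
        _ = _ := by rw [h]; group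
    · intro h
      calc g * (x⁻¹ * y) = x⁻¹ * (x * g * x⁻¹) * y := by group
        _ = _ := by rw [h]; group
  rw [this]
  refine ⟨fun h g => by rw [D.comm_eq, D.comm_eq, h], fun h => ?_⟩
  refine sub_eq_zero.1 (D.eq_zero_of_ω fun v => ?_)
  obtain ⟨g, rfl⟩ := D.θ_surj v
  have := h g
  rw [D.comm_eq, D.comm_eq, ← zpow_natCast, ← zpow_natCast, c_zpow_eq] at this
  rw [Int.cast_natCast, Int.cast_natCast, ZMod.natCast_zmod_val, ZMod.natCast_zmod_val] at this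
  simp only [ω, Prod.fst_sub, Prod.snd_sub] at this ⊢
  linear_combination this

theorem isUnit_cast {σ : ℕ} (h : σ ≡ 1 [MOD p]) : IsUnit (σ : ZMod (p ^ D.n)) :=
  (ZMod.isUnit_iff_coprime _ _).2 (Nat.Coprime.pow_right _
    ((Nat.Prime.coprime_iff_not_dvd hp.out).2 (not_dvd_of_modEq h)).symm)

theorem smul_mem (W : AddSubgroup D.V) (z : ZMod (p ^ D.n)) {v : D.V} (h : v ∈ W) : z • v ∈ W := by
  rw [← ZMod.natCast_zmod_val z, Nat.cast_smul_eq_nsmul]; exact W.nsmul_mem h _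

/-- preimage of an additive subgroup -/
def pre (W : AddSubgroup D.V) : Subgroup G where
  carrier := {g | D.θ g ∈ W}
  one_mem' := by simp [θ_one]
  mul_mem' := fun {x y} hx hy => by
    obtain ⟨σ, -, h⟩ := D.θ_mul x
    change D.θ _ ∈ W
    rw [h]; exact W.add_mem hx (W.nsmul_mem hy _)
  inv_mem' := fun {x} hx => by
    obtain ⟨σ, -, h⟩ := D.θ_pow x
    have : x⁻¹ = x ^ (orderOf x - 1) := by
      rw [eq_comm, ← mul_eq_one_iff_eq_inv, ← pow_succ, Nat.sub_add_cancel (orderOf_pos x),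
        pow_orderOf_eq_one]
    change D.θ _ ∈ W
    rw [this, h]; exact W.nsmul_mem hx _

theorem mem_pre {W : AddSubgroup D.V} {g : G} : g ∈ D.pre W ↔ D.θ g ∈ W := Iff.rfl

/-- image of a subgroup -/
def im (R : Subgroup G) : AddSubgroup D.V where
  carrier := D.θ '' R
  zero_mem' := ⟨1, one_mem _, D.θ_one⟩
  add_mem' := by
    rintro _ _ ⟨x, hx, rfl⟩ ⟨y, hy, rfl⟩
    obtain ⟨σ, hσ, h⟩ := D.θ_mul x
    obtain ⟨u, hu⟩ := (D.isUnit_cast hσ).exists_right_inv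
    obtain ⟨t, ht⟩ := D.exists_pow y u
    exact ⟨x * y ^ t, mul_mem hx (pow_mem hy t), by
      rw [h, ht, ← Nat.cast_smul_eq_nsmul (ZMod (p ^ D.n)), smul_smul, hu, one_smul]⟩
  neg_mem' := by
    rintro _ ⟨x, hx, rfl⟩
    obtain ⟨t, ht⟩ := D.exists_pow x (-1)
    exact ⟨x ^ t, pow_mem hx t, by rw [ht, neg_smul, one_smul]⟩

theorem pre_im {R : Subgroup G} (h : center G ≤ R) : D.pre (D.im R) = R := by
  refine le_antisymm ?_ fun x hx => ⟨x, hx, rfl⟩
  rintro x ⟨y, hy, e⟩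
  simpa using mul_mem hy (h ((D.θ_eq_iff y x).1 e))

theorem pre_bot : D.pre ⊥ = center G := by
  ext g
  rw [mem_pre, AddSubgroup.mem_bot, ← D.θ_one, eq_comm, θ_eq_iff]; simp

theorem card_pre (W : AddSubgroup D.V) : #(D.pre W) = #(center G) * Nat.card W := by
  rw [← Nat.card_prod]
  choose s hs using D.θ_surj
  refine (Nat.card_eq_of_bijective (fun x : center G × W => (⟨s x.2 * x.1, ?_⟩ : D.pre W)) ⟨?_, ?_⟩).symm
  · rw [mem_pre, ← (D.θ_eq_iff (s x.2) _).2 (by simp), hs]; exact x.2.2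
  · rintro ⟨z, v⟩ ⟨z', v'⟩ h
    have h : s v * z = s v' * z' := congrArg Subtype.val h
    have h1 := congrArg D.θ h
    rw [← (D.θ_eq_iff (s v) (s v * z)).2 (by simp), ← (D.θ_eq_iff (s v') (s v' * z')).2 (by simp),
      hs, hs] at h1
    obtain rfl : v = v' := Subtype.ext h1
    rw [Subtype.ext (mul_left_cancel h)]
  · rintro ⟨g, hg⟩
    exact ⟨(⟨_, (D.θ_eq_iff (s (D.θ g)) g).1 (hs _)⟩, ⟨_, hg⟩), by simp⟩

theorem card_V : Nat.card D.V = p ^ (2 * D.n) := by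
  rw [Nat.card_prod, Nat.card_zmod, ← pow_add, two_mul]

theorem card_G : Nat.card G = #(center G) * p ^ (2 * D.n) := by
  rw [← D.card_V, ← AddSubgroup.card_top (G := D.V), ← D.card_pre, ← card_top (G := G)]
  congr 2

theorem index_center : (center G).index = p ^ (2 * D.n) :=
  Nat.eq_of_mul_eq_mul_left (cardG_pos _) (by rw [card_mul_index, D.card_G])

theorem index_pre (W : AddSubgroup D.V) : (D.pre W).index = W.index := by
  refine Nat.eq_of_mul_eq_mul_left (cardG_pos (D.pre W)) ?_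
  rw [card_mul_index, D.card_pre, mul_assoc, AddSubgroup.card_mul_index, D.card_V, D.card_G]

/-- the orthogonal complement -/
def perp (W : AddSubgroup D.V) : AddSubgroup D.V where
  carrier := {v | ∀ w ∈ W, D.ω w v = 0}
  zero_mem' := fun w _ => by simp [ω]
  add_mem' := fun {u v} hu hv w hw => by
    have h1 := hu w hw
    have h2 := hv w hw
    simp only [ω, Prod.fst_add, Prod.snd_add] at h1 h2 ⊢
    linear_combination h1 + h2
  neg_mem' := fun {u} hu w hw => by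
    have h1 := hu w hw
    simp only [ω, Prod.fst_neg, Prod.snd_neg] at h1 ⊢
    linear_combination -h1

theorem cent_eq (R : Subgroup G) : C[R] = D.pre (D.perp (D.im R)) := by
  ext g
  rw [mem_cent, mem_pre]
  exact ⟨by rintro h _ ⟨x, hx, rfl⟩; exact (D.comm_iff _ _).1 (h x hx),
    fun h x hx => (D.comm_iff _ _).2 (h _ ⟨x, hx, rfl⟩)⟩

theorem index_perp (W : AddSubgroup D.V) : (D.perp W).index = Nat.card W := by
  obtain ⟨f, hf⟩ := exists_inj_units_of_cyclic (Multiplicative (ZMod (p ^ D.n))) inferInstance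
  let β : Multiplicative D.V →* (Multiplicative W →* ℂˣ) :=
    { toFun := fun v =>
        { toFun := fun w => f (Multiplicative.ofAdd (D.ω w.toAdd v.toAdd))
          map_one' := by simp [ω]
          map_mul' := fun w w' => by rw [← f.map_mul, ← ofAdd_add]; simp only [ω]; congr 2; simp; ring }
      map_one' := by ext w; simp [ω]
      map_mul' := fun v v' => by
        refine MonoidHom.ext fun w => ?_
        simp only [MonoidHom.coe_mk, OneHom.coe_mk, MonoidHom.mul_apply]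
        rw [← f.map_mul, ← ofAdd_add]; simp only [ω]; congr 2; simp; ring }
  have hβ : ∀ v w, β v w = 1 ↔ D.ω w.toAdd v.toAdd = 0 := fun v w => by
    change f _ = 1 ↔ _
    rw [map_eq_one_iff f hf]; rfl
  have hk : β.ker = (D.perp W).toSubgroup := by
    ext v
    rw [MonoidHom.mem_ker, MonoidHom.ext_iff]
    exact ⟨fun h w hw => (hβ v (Multiplicative.ofAdd ⟨w, hw⟩)).1 (h _), fun h w => (hβ v w).2 (h _ w.toAdd.2)⟩
  have hk' : β.flip.ker = ⊥ := by
    refine eq_bot_iff.2 fun w hw => ?_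
    rw [MonoidHom.mem_ker, MonoidHom.ext_iff] at hw
    exact Subtype.ext (D.eq_zero_of_ω fun v => (hβ (Multiplicative.ofAdd v) w).1 (hw _))
  have h1 := pairing_index_le β ⊥ fun a b hb => by rw [mem_bot.1 hb, map_one]
  have h2 := pairing_index_le β.flip β.ker fun a b hb => by
    rw [MonoidHom.flip_apply, MonoidHom.mem_ker.1 hb]; rfl
  rw [hk', index_bot, hk] at h2
  rw [index_bot, hk] at h1
  exact le_antisymm h1 h2

include D in
/-- centralizer duality -/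
theorem card_mul_card_cent {R : Subgroup G} (h : center G ≤ R) : #R * #C[R] = #(center G) * Nat.card G := by
  rw [← card_mul_index C[R], D.cent_eq, D.index_pre, D.index_perp]
  nth_rewrite 1 [← D.pre_im h]
  rw [D.card_pre (D.im R)]; ring

theorem index_cent1 (g : G) : C1[g].index = addOrderOf (D.θ g) := by
  rw [← C_zpowers, D.cent_eq, D.index_pre, D.index_perp, ← Nat.card_zmultiples]
  suffices h : D.im (zpowers g) = AddSubgroup.zmultiples (D.θ g) by rw [h]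
  refine le_antisymm ?_ (by rw [AddSubgroup.zmultiples_le]; exact ⟨g, mem_zpowers g, rfl⟩)
  rintro _ ⟨x, hx, rfl⟩
  exact (show zpowers g ≤ D.pre (AddSubgroup.zmultiples (D.θ g)) by
    rw [zpowers_le]; exact AddSubgroup.mem_zmultiples _) hx

/-- the elements killed by `p^e` -/
def Vk (e : ℕ) : AddSubgroup D.V := (nsmulAddMonoidHom (p ^ e) : D.V →+ D.V).ker

theorem mem_Vk {e : ℕ} {v : D.V} : v ∈ D.Vk e ↔ p ^ e • v = 0 := Iff.rfl

theorem card_Vk {e : ℕ} (he : e ≤ D.n) : Nat.card (D.Vk e) = p ^ (2 * e) := by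
  have : D.Vk e = (nsmulAddMonoidHom (p ^ e) : ZMod (p ^ D.n) →+ _).ker.prod
      (nsmulAddMonoidHom (p ^ e) : ZMod (p ^ D.n) →+ _).ker := by
    ext v; simp [mem_Vk, AddSubgroup.mem_prod, Prod.ext_iff]
  rw [this, Nat.card_congr (AddSubgroup.prodEquiv _ _).toEquiv, Nat.card_prod,
    IsAddCyclic.card_nsmulAddMonoidHom_ker, Nat.card_zmod, Nat.gcd_eq_right (pow_dvd_pow p he),
    ← pow_add, two_mul]

theorem index_cent1_le (g : G) (e : ℕ) : C1[g].index ≤ p ^ e ↔ g ∈ D.pre (D.Vk e) := by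
  rw [D.index_cent1, mem_pre, mem_Vk, ← addOrderOf_dvd_iff_nsmul_eq_zero]
  obtain ⟨k, -, hk⟩ := (Nat.dvd_prime_pow hp.out).1 (D.card_V ▸ addOrderOf_dvd_natCard (D.θ g))
  rw [hk, Nat.pow_le_pow_iff_right hp.out.one_lt, Nat.pow_dvd_pow_iff_le_right hp.out.one_lt]

theorem mho_eq {s : ℕ} (hs : s ≤ D.n) :
    closure {x : G | ∃ y : G, y ^ p ^ s = x} = D.pre (D.Vk (D.n - s)) := by
  have hz : ∀ k : ℕ, (p ^ (D.n - s) • (k : ZMod (p ^ D.n)) = 0) ↔ p ^ s ∣ k := fun k => by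
    rw [nsmul_eq_mul, ← Nat.cast_mul, ZMod.natCast_eq_zero_iff]
    nth_rewrite 1 [← Nat.sub_add_cancel hs]
    rw [pow_add, Nat.mul_dvd_mul_iff_left (pow_pos hp.out.pos _)]
  refine le_antisymm ((closure_le _).2 ?_) fun g hg => ?_
  · rintro _ ⟨y, rfl⟩
    obtain ⟨σ, hσ, h⟩ := D.θ_pow y
    rw [SetLike.mem_coe, mem_pre, mem_Vk, h, ← Nat.cast_smul_eq_nsmul (ZMod (p ^ D.n)) (gs _ _),
      ← smul_assoc, (hz _).2 ((pow_dvd_gs D.odd hσ _ _).2 dvd_rfl), zero_smul]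
  · obtain ⟨i, j, rfl⟩ := D.gen g
    rw [mem_pre, mem_Vk, θ_coord, Prod.ext_iff] at hg
    obtain ⟨i, rfl⟩ := (hz _).1 hg.1
    obtain ⟨j, rfl⟩ := (pow_dvd_gs D.odd D.hρ _ _).1 ((hz _).1 hg.2)
    exact mul_mem (subset_closure ⟨D.a ^ i, by rw [← pow_mul, mul_comm]⟩)
      (subset_closure ⟨D.b ^ j, by rw [← pow_mul, mul_comm]⟩)

theorem Vk_zero : D.Vk 0 = ⊥ := by ext v; simp [mem_Vk]

theorem norm_a : (⊤ : Subgroup G) ≤ N[zpowers D.a] := le_norm_iff.2 fun g _ x hx => by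
  obtain ⟨i, j, rfl⟩ := D.gen g
  obtain ⟨k, rfl⟩ := mem_powers_iff_mem_zpowers.2 hx
  have : D.a ^ i * D.b ^ j * D.a ^ k * (D.a ^ i * D.b ^ j)⁻¹ = D.a ^ i * D.a ^ (D.ρ ^ j * k) * (D.a ^ i)⁻¹ := by
    rw [mul_assoc (D.a ^ i), D.conj_pow]; group
  simp only
  rw [this]
  exact mul_mem (mul_mem (npow_mem_zpowers _ _) (npow_mem_zpowers _ _)) (inv_mem (npow_mem_zpowers _ _))

omit hp in
theorem _root_.Cfsg.Agent.Gen.eq_zpowers_pow {x : G} {B : Subgroup G} (h : B ≤ zpowers x) :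
    B = zpowers (x ^ B.relIndex (zpowers x)) := by
  refine eq_subG_cyclic (A := zpowers x) inferInstance h (by simp) ?_
  have h1 := card_mul_relIndex h
  rw [Nat.card_zpowers] at h1
  rw [Nat.card_zpowers, orderOf_pow' _ (relIndex_pos _ _).ne', ← h1, Nat.gcd_mul_left_left,
    Nat.mul_div_cancel _ (relIndex_pos _ _)]

omit hp in
theorem _root_.Cfsg.Agent.Gen.relIndex_sup_right_helper (L A : Subgroup G) [A.Normal] :
    L.relIndex (L ⊔ A) = L.relIndex A := by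
  have h1 := card_sup_mul_inf (Or.inl (norm_of_normal A L))
  rw [← card_mul_relIndex (le_sup_left : L ≤ L ⊔ A), ← card_inf_mul_relIndex L A, mul_assoc,
    mul_comm (#(L ⊓ A : Subgroup G))] at h1
  exact Nat.eq_of_mul_eq_mul_right (cardG_pos _) (Nat.eq_of_mul_eq_mul_left (cardG_pos _) h1)

theorem orderOf_c_pow (s t : ℕ) : orderOf (D.c ^ (p ^ s * gs D.ρ (p ^ t))) = p ^ (D.n - (s + t)) := by
  obtain ⟨u, hu⟩ := (pow_dvd_gs D.odd D.hρ t (p ^ t)).2 dvd_rfl
  have hpu : ¬ p ∣ u := fun h => by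
    have : p ^ (t + 1) ∣ gs D.ρ (p ^ t) := by rw [hu, pow_succ]; exact Nat.mul_dvd_mul_left _ h
    rw [pow_dvd_gs D.odd D.hρ, Nat.pow_dvd_pow_iff_le_right hp.out.one_lt] at this
    omega
  have hc : (orderOf (D.c ^ p ^ (s + t))).Coprime u := by
    obtain ⟨k, hk⟩ := (IsPGroup.iff_orderOf.1 D.pg) (D.c ^ p ^ (s + t))
    rw [hk]; exact Nat.Coprime.pow_left _ ((Nat.Prime.coprime_iff_not_dvd hp.out).2 hpu)
  rw [hu, ← mul_assoc, ← pow_add, pow_mul, hc.orderOf_pow, orderOf_pow' _ (pow_pos hp.out.pos _).ne',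
    c, D.ord]
  rcases le_total D.n (s + t) with h | h
  · rw [Nat.gcd_eq_left (pow_dvd_pow p h), Nat.div_self (pow_pos hp.out.pos _), Nat.sub_eq_zero_of_le h,
      pow_zero]
  · rw [Nat.gcd_eq_right (pow_dvd_pow p h), Nat.pow_div h hp.out.pos]

/-- the derived subgroup of a subgroup of index `p^r` has order `p^(n-r)` -/
theorem card_der (L : Subgroup G) {r : ℕ} (hr : L.index = p ^ r) :
    #(⁅L, L⁆ : Subgroup G) = p ^ (D.n - r) := by
  set A := zpowers D.a with hA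
  haveI hAn : A.Normal := NormalIn.normal ⟨le_top, D.norm_a⟩
  obtain ⟨s, hs⟩ : ∃ s, (L ⊓ A).relIndex A = p ^ s := by
    obtain ⟨k, hk⟩ := IsPGroup.iff_card.1 (D.pg.to_subgroup A)
    obtain ⟨s, -, h⟩ := (Nat.dvd_prime_pow hp.out).1 (hk ▸ Dvd.intro_left _ (card_mul_relIndex (inf_le_right : L ⊓ A ≤ A)))
    exact ⟨s, h⟩
  have hB := eq_zpowers_pow (inf_le_right : L ⊓ A ≤ A)
  rw [← hA, hs] at hB
  have htop : zpowers (QuotientGroup.mk' A D.b) = ⊤ := by
    refine top_le_iff.1 fun y _ => ?_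
    obtain ⟨g, rfl⟩ := QuotientGroup.mk'_surjective A y
    obtain ⟨i, j, rfl⟩ := D.gen g
    rw [map_mul, show QuotientGroup.mk' A (D.a ^ i) = 1 from
      (QuotientGroup.eq_one_iff _).2 (npow_mem_zpowers _ _), one_mul, map_pow]
    exact npow_mem_zpowers _ _
  have hQ := eq_zpowers_pow (x := QuotientGroup.mk' A D.b) (B := L.map (QuotientGroup.mk' A)) (htop ▸ le_top)
  rw [htop, relIndex_top_right, index_map, QuotientGroup.ker_mk', QuotientGroup.range_mk', index_top,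
    mul_one] at hQ
  obtain ⟨t, ht⟩ : ∃ t, (L ⊔ A).index = p ^ t := D.pg.index _
  have hst : r = s + t := by
    have := relIndex_mul_index (le_sup_left : L ≤ L ⊔ A)
    rw [hr, ht, relIndex_sup_right_helper, ← inf_relIndex_right, hs, ← pow_add] at this
    exact (Nat.pow_right_injective hp.out.two_le this).symm
  rw [ht] at hQ
  obtain ⟨x, hx, hxe⟩ : QuotientGroup.mk' A D.b ^ p ^ t ∈ L.map (QuotientGroup.mk' A) := hQ ▸ mem_zpowers _
  have hL : L = (L ⊓ A) ⊔ zpowers x := by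
    refine le_antisymm (fun y hy => ?_) (sup_le inf_le_left (by simpa using hx))
    obtain ⟨k, hk⟩ : QuotientGroup.mk' A y ∈ zpowers (QuotientGroup.mk' A x) := by
      rw [hxe, ← hQ]; exact mem_map_of_mem _ hy
    have : y = y * (x ^ k)⁻¹ * x ^ k := by group
    rw [this]
    refine mul_mem_sup' (mem_inf.2 ⟨L.mul_mem hy (L.inv_mem (L.zpow_mem hx k)), ?_⟩) (zpow_mem_zpowers _ _)
    rw [← QuotientGroup.ker_mk' A, MonoidHom.mem_ker, map_mul, map_inv, map_zpow]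
    exact mul_inv_eq_one.2 hk.symm
  obtain ⟨i, hi⟩ : ∃ i : ℕ, x = D.a ^ i * D.b ^ p ^ t := by
    have : x * (D.b ^ p ^ t)⁻¹ ∈ A := by
      rw [← QuotientGroup.ker_mk' A, MonoidHom.mem_ker, map_mul, map_inv, map_pow, hxe, mul_inv_cancel]
    obtain ⟨i, hi⟩ := mem_powers_iff_mem_zpowers.2 this
    exact ⟨i, by simp only at hi; rw [hi]; group⟩
  have hab : IsMulCommutative (L ⊓ A : Subgroup G) := abelianS inf_le_right (abelian_zpowers _)
  have hxn : x ∈ N[L ⊓ A] := normsI (normG L) (norm_of_normal A L) hx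
  rw [hL, der_abelian_cyclic hab x hxn, ← commWith_range hab x hxn, hst, ← D.orderOf_c_pow,
    ← Nat.card_zpowers]
  suffices h : (commWith hab x hxn).range = zpowers (D.c ^ (p ^ s * gs D.ρ (p ^ t))) by rw [h]
  have hmem : D.a ^ p ^ s ∈ L ⊓ A := hB ▸ mem_zpowers _
  have h1 : commWith hab x hxn ⟨_, hmem⟩ = D.c ^ (p ^ s * gs D.ρ (p ^ t)) := by
    have := D.comm_coord i (p ^ t) (p ^ s) 0
    rw [pow_zero, mul_one, ← hi, gs_zero] at this
    rw [commWith_apply, this, ← zpow_natCast]; simp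
  rw [← h1, ← MonoidHom.map_zpowers, MonoidHom.range_eq_map]
  congr 1
  refine (map_injective (subtype_injective _) ?_)
  rw [MonoidHom.map_zpowers, map_subtype_top]; exact hB

include D in
theorem abelian_iff_le (L : Subgroup G) : IsMulCommutative L ↔ #L ≤ (_root_.commutator G).index := by
  obtain ⟨r, hr⟩ := D.pg.index L
  rw [← der1_eq_bot, ← card_eq_one_iff, D.card_der L hr, Nat.pow_eq_one, or_iff_right hp.out.one_lt.ne',
    Nat.sub_eq_zero_iff_le, ← Nat.pow_le_pow_iff_right hp.out.one_lt, ← hr, ← D.card_commutator,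
    ← Nat.mul_le_mul_left_iff (cardG_pos L), card_mul_index, ← card_mul_index (_root_.commutator G),
    mul_comm, Nat.mul_le_mul_left_iff (cardG_pos _)]

theorem exists_act (y : G) : ∃ σ : ℕ, σ ≡ 1 [MOD p] ∧ ∀ x ∈ zpowers D.a, y * x = x ^ σ * y := by
  obtain ⟨i, j, rfl⟩ := D.gen y
  refine ⟨D.ρ ^ j, by simpa using D.hρ.pow j, fun x hx => ?_⟩
  obtain ⟨k, rfl⟩ := mem_powers_iff_mem_zpowers.2 hx
  simp only
  rw [mul_assoc, D.conj_pow, ← mul_assoc, ← mul_assoc, ← pow_add, ← pow_mul, ← pow_add, add_comm, mul_comm k]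

theorem mul_pow_eq {x y : G} {σ : ℕ} (h : ∀ x ∈ zpowers D.a, y * x = x ^ σ * y) (hx : x ∈ zpowers D.a)
    (t : ℕ) : (x * y) ^ t = x ^ gs σ t * y ^ t := by
  induction t with
  | zero => simp [gs_zero]
  | succ t ih =>
    rw [pow_succ', ih, gs_succ, mul_assoc, ← mul_assoc y, h _ (pow_mem hx _), pow_add, pow_one, ← pow_mul,
      mul_comm σ, pow_succ']
    group

theorem mul_pow_eq_one {x y : G} (hx : x ∈ zpowers D.a) {w : ℕ} (h : x ^ p ^ w = y ^ p ^ w) :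
    (x * y⁻¹) ^ p ^ w = 1 := by
  obtain ⟨σ, hσ, hy⟩ := D.exists_act y⁻¹
  have h1 := one_le_of_modEq hσ
  have h2 : (x ^ p ^ w) ^ (σ - 1) = 1 := by
    have h3 := hy _ (pow_mem hx (p ^ w))
    rw [h, ((Commute.refl y).inv_left.pow_right _).eq, mul_left_inj, ← h] at h3
    rw [← Nat.sub_add_cancel h1, pow_succ] at h3
    exact (right_eq_mul.1 h3)
  obtain ⟨q, hq⟩ := pow_dvd_sum_gs D.odd hσ w
  rw [D.mul_pow_eq hy hx, gs_eq_add h1, hq, pow_add, ← mul_assoc, mul_comm (σ - 1), pow_mul, pow_mul, h2,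
    one_pow, mul_one, h, inv_pow, mul_inv_cancel]

end MetaData

omit hp in
theorem compl_of_mul {X Y : Subgroup G} (h : ∀ g, ∃ x ∈ X, ∃ y ∈ Y, g = x * y) (hc : #X * #Y ≤ Nat.card G) :
    X ⊓ Y = ⊥ ∧ #X * #Y = Nat.card G := by
  let f : X × Y → G := fun z => z.1 * z.2
  have hf : Function.Surjective f := fun g => by
    obtain ⟨x, hx, y, hy, rfl⟩ := h g; exact ⟨(⟨x, hx⟩, ⟨y, hy⟩), rfl⟩
  have he : #X * #Y = Nat.card G := le_antisymm hc (Nat.card_prod X Y ▸ Nat.card_le_card_of_surjective f hf)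
  have hb := (Nat.bijective_iff_surjective_and_card f).2 ⟨hf, (Nat.card_prod X Y).trans he⟩
  refine ⟨eq_bot_iff.2 fun z hz => ?_, he⟩
  have := @hb.1 (⟨z, hz.1⟩, 1) (1, ⟨z, hz.2⟩) (by simp [f])
  exact congrArg (fun w => (w.1 : G)) this

theorem MetaData.exists_factor (D : MetaData p G) :
    ∃ A B : Subgroup G, IsCyclic A ∧ IsCyclic B ∧ A ⊓ B = ⊥ ∧ #A * #B = Nat.card G := by
  set A := zpowers D.a with hA
  haveI hAn : A.Normal := NormalIn.normal ⟨le_top, D.norm_a⟩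
  obtain ⟨l, hl⟩ := D.pg.index A
  obtain ⟨m, hm⟩ := (IsPGroup.iff_orderOf.1 D.pg) D.a
  have hG : Nat.card G = p ^ m * p ^ l := by rw [← card_mul_index A, hl, Nat.card_zpowers, hm]
  by_cases hx : ∃ x ∈ A, x ^ p ^ l = D.b ^ p ^ l
  · obtain ⟨x, hx, e⟩ := hx
    refine ⟨A, zpowers (x * D.b⁻¹), inferInstance, inferInstance, compl_of_mul (fun g => ?_) ?_⟩
    · refine (mem_sup_norml (norm_of_normal A _)).1 ?_
      obtain ⟨i, j, rfl⟩ := D.gen g
      refine mul_mem (mem_sup_left (npow_mem_zpowers _ _)) (pow_mem ?_ _)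
      have : D.b = (x * D.b⁻¹)⁻¹ * x := by group
      nth_rewrite 2 [this]
      exact mul_mem (mem_sup_right (inv_mem (mem_zpowers _))) (mem_sup_left hx)
    · rw [hG, Nat.card_zpowers, Nat.card_zpowers, hm]
      exact Nat.mul_le_mul_left _ (orderOf_le_of_pow_eq_one (pow_pos hp.out.pos _) (D.mul_pow_eq_one hx e))
  obtain ⟨e, he⟩ := mem_powers_iff_mem_zpowers.2 (hl ▸ A.pow_index_mem D.b)
  simp only at he
  have he0 : e ≠ 0 := fun h => hx ⟨1, one_mem _, by rw [← he, h]; simp⟩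
  obtain ⟨w, u, hu, rfl⟩ := Nat.exists_eq_pow_mul_and_not_dvd he0 p hp.out.ne_one
  have hwl : w ≤ l := by
    by_contra h
    refine hx ⟨D.a ^ (p ^ (w - l) * u), npow_mem_zpowers _ _, ?_⟩
    rw [← he, ← pow_mul, mul_right_comm, ← pow_add, Nat.sub_add_cancel (le_of_not_ge h)]
  have hwm : w ≤ m := by
    by_contra h
    refine hx ⟨1, one_mem _, ?_⟩
    rw [← he, one_pow, eq_comm, ← orderOf_dvd_iff_pow_eq_one, hm]
    exact (pow_dvd_pow p (le_of_not_ge h)).mul_right _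
  have h1 : (D.a ^ u) ^ p ^ w = (D.b ^ p ^ (l - w)) ^ p ^ w := by
    rw [← pow_mul, ← pow_mul, ← pow_add, Nat.sub_add_cancel hwl, ← he, mul_comm]
  refine ⟨zpowers (D.a ^ u * (D.b ^ p ^ (l - w))⁻¹), zpowers D.b, inferInstance, inferInstance,
    compl_of_mul (fun g => ?_) ?_⟩
  · obtain ⟨i, j, rfl⟩ := D.gen g
    obtain ⟨σ, hσ, hy⟩ := D.exists_act (D.b ^ p ^ (l - w))⁻¹
    have hunit : IsUnit (u : ZMod (p ^ m)) := (ZMod.isUnit_iff_coprime _ _).2 (Nat.Coprime.pow_right _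
      ((Nat.Prime.coprime_iff_not_dvd hp.out).2 hu).symm)
    obtain ⟨v, hv⟩ := hunit.exists_right_inv
    obtain ⟨t, ht⟩ := exists_gs D.odd hσ m (v * i)
    have h2 : (D.a ^ u) ^ gs σ t = D.a ^ i := by
      rw [← pow_mul, pow_eq_pow_iff_modEq, hm, ← ZMod.natCast_eq_natCast_iff, Nat.cast_mul, ht,
        ← mul_assoc, hv, one_mul]
    refine ⟨_, npow_mem_zpowers _ t, ((D.b ^ p ^ (l - w))⁻¹ ^ t)⁻¹ * D.b ^ j,
      mul_mem (inv_mem (pow_mem (inv_mem (npow_mem_zpowers _ _)) _)) (npow_mem_zpowers _ _), ?_⟩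
    rw [D.mul_pow_eq hy (npow_mem_zpowers _ _), h2]; group
  · rw [hG, Nat.card_zpowers, Nat.card_zpowers]
    have h2 := orderOf_le_of_pow_eq_one (pow_pos hp.out.pos _) (D.mul_pow_eq_one (npow_mem_zpowers _ _) h1)
    have h3 : orderOf D.b ≤ p ^ l * p ^ (m - w) := orderOf_le_of_pow_eq_one
      (Nat.mul_pos (pow_pos hp.out.pos _) (pow_pos hp.out.pos _)) (by
        rw [pow_mul, ← he, ← pow_mul, ← orderOf_dvd_iff_pow_eq_one, hm, mul_right_comm, ← pow_add,
          Nat.add_sub_cancel' hwm]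
        exact dvd_mul_right _ _)
    refine (Nat.mul_le_mul h2 h3).trans_eq ?_
    rw [mul_left_comm, ← pow_add, Nat.add_sub_cancel' hwm, mul_comm]

end Cfsg.Agent.Gen
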