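import Cfsg.Agent.Gen.MinAct
import Cfsg.Agent.PGrp.Basic

/-! Baer's trick: a group of class `≤ 2` whose commutators have odd order carries an abelian group
structure `Baer h` (`x + y = x y ⁅y, x⁆ ^ h`) preserved by all automorphisms, with the same powers;
Bender's lemma `bender_PQ` (`p` odd, `C_G(P) ≤ C_G(Q)` implies `[G, Q] = 1`). -/

set_option autoImplicit false

namespace Cfsg.Agent.Gen

open Subgroup Cfsg.Agent.BG
open scoped commutatorElement

/-- Data for Baer's construction. -/
structure BaerData (G : Type*) [Group G] where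
  h : ℕ
  central : ∀ x y z : G, Commute ⁅x, y⁆ z
  half : ∀ x y : G, ⁅x, y⁆ ^ h * ⁅x, y⁆ ^ h = ⁅x, y⁆

variable {G : Type*} [Group G]

/-- The group with Baer's abelian multiplication. -/
def Baer (_D : BaerData G) : Type _ := G

namespace Baer

variable {D : BaerData G}

/-- The underlying element. -/
def val (x : Baer D) : G := x

/-- An element of `G` as an element of `Baer D`. -/
def mk (D : BaerData G) (x : G) : Baer D := x

theorem central_pow (D : BaerData G) (x y z : G) (n : ℕ) : Commute (⁅x, y⁆ ^ n) z :=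
  (D.central x y z).pow_left n

theorem comm_central_left (D : BaerData G) (x y a b : G) (n : ℕ) :
    ⁅x * ⁅a, b⁆ ^ n, y⁆ = ⁅x, y⁆ := by
  rw [PGrp.commutator_mul_left (D.central _ _ _),
    commutatorElement_eq_one_iff_commute.2 (central_pow D a b y n), one_mul]

theorem comm_central_right (D : BaerData G) (x y a b : G) (n : ℕ) :
    ⁅y, x * ⁅a, b⁆ ^ n⁆ = ⁅y, x⁆ := by
  rw [PGrp.commutator_mul_right (D.central _ _ _),
    commutatorElement_eq_one_iff_commute.2 (central_pow D a b y n).symm, mul_one]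

instance instCommGroup (D : BaerData G) : CommGroup (Baer D) where
  mul x y := mk D (x.val * y.val * ⁅y.val, x.val⁆ ^ D.h)
  one := mk D 1
  inv x := mk D x.val⁻¹
  mul_assoc x y z := by
    change x.val * y.val * ⁅y.val, x.val⁆ ^ D.h * z.val *
        ⁅z.val, x.val * y.val * ⁅y.val, x.val⁆ ^ D.h⁆ ^ D.h =
      x.val * (y.val * z.val * ⁅z.val, y.val⁆ ^ D.h) *
        ⁅y.val * z.val * ⁅z.val, y.val⁆ ^ D.h, x.val⁆ ^ D.h
    rw [comm_central_left D, comm_central_right D, PGrp.commutator_mul_left (D.central _ _ _),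
      PGrp.commutator_mul_right (D.central _ _ _), (D.central _ _ _).mul_pow,
      (D.central _ _ _).mul_pow, mul_assoc (x.val * y.val), (central_pow D _ _ z.val _).eq]
    generalize x.val = a, y.val = b, z.val = c
    have h1 := (central_pow D b a (⁅c, a⁆ ^ D.h * ⁅c, b⁆ ^ D.h) D.h).eq
    have h2 := (central_pow D c a (⁅c, b⁆ ^ D.h) D.h).eq
    simp only [mul_assoc] at h1 ⊢
    rw [h1, ← mul_assoc (⁅c, a⁆ ^ D.h), h2, mul_assoc]
  one_mul x := by
    change 1 * x.val * ⁅x.val, 1⁆ ^ D.h = x.val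
    simp
  mul_one x := by
    change x.val * 1 * ⁅(1 : G), x.val⁆ ^ D.h = x.val
    simp
  inv_mul_cancel x := by
    change x.val⁻¹ * x.val * ⁅x.val, x.val⁻¹⁆ ^ D.h = 1
    simp [commutatorElement_def]
  mul_comm x y := by
    change x.val * y.val * ⁅y.val, x.val⁆ ^ D.h = y.val * x.val * ⁅x.val, y.val⁆ ^ D.h
    generalize x.val = a, y.val = b
    rw [PGrp.mul_eq_commutator_mul a b, (D.central b a (a * b)).eq, mul_assoc (a * b),
      ← commutatorElement_inv b a, inv_pow]
    congr 1
    rw [eq_mul_inv_iff_mul_eq, D.half]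

theorem val_mul (x y : Baer D) : (x * y).val = x.val * y.val * ⁅y.val, x.val⁆ ^ D.h := rfl
theorem val_one : (1 : Baer D).val = 1 := rfl
theorem val_inv (x : Baer D) : (x⁻¹).val = x.val⁻¹ := rfl
theorem val_mk (x : G) : (mk D x).val = x := rfl
theorem val_injective : Function.Injective (val : Baer D → G) := fun _ _ h => h

theorem val_pow (x : Baer D) (n : ℕ) : (x ^ n).val = x.val ^ n := by
  induction n with
  | zero => rw [pow_zero, pow_zero, val_one]
  | succ n ih =>
    rw [pow_succ, val_mul, ih, commutatorElement_eq_one_iff_commute.2 (Commute.self_pow _ _),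
      one_pow, mul_one, pow_succ]

instance instFinite [Finite G] (D : BaerData G) : Finite (Baer D) := inferInstanceAs (Finite G)

theorem card (D : BaerData G) : Nat.card (Baer D) = Nat.card G := rfl

/-- Automorphisms of `G` are automorphisms of `Baer D`. -/
def aut (D : BaerData G) : MulAut G →* MulAut (Baer D) where
  toFun φ :=
    { toFun := fun x => mk D (φ x.val)
      invFun := fun x => mk D (φ.symm x.val)
      left_inv := fun x => φ.symm_apply_apply x.val
      right_inv := fun x => φ.apply_symm_apply x.val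
      map_mul' := fun x y => val_injective (by
        simp only [val_mul, val_mk, map_mul, map_pow, map_commutatorElement]) }
  map_one' := rfl
  map_mul' _ _ := rfl

theorem val_aut (φ : MulAut G) (x : Baer D) : (aut D φ x).val = φ x.val := rfl

end Baer

/-- Baer data for a group of class two whose commutators have order dividing an odd number. -/
def baerData {n : ℕ} (hn : Odd n) (h1 : ∀ x y z : G, Commute ⁅x, y⁆ z)
    (h2 : ∀ x y : G, ⁅x, y⁆ ^ n = 1) : BaerData G where
  h := (n + 1) / 2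
  central := h1
  half x y := by
    obtain ⟨k, rfl⟩ := hn
    rw [← pow_add, show (2 * k + 1 + 1) / 2 + (2 * k + 1 + 1) / 2 = 2 * k + 1 + 1 by omega,
      pow_succ, h2, one_mul]

theorem bender_abelian {V B : Type*} [CommGroup V] [Finite V] [Group B] [Finite B] {p : ℕ}
    [hp : Fact p.Prime] (hV : IsPGroup p V) (φ : B →* MulAut V) {P Q : Subgroup B}
    (hP : IsPGroup p P) (hQ : (#Q).Coprime p) (hPQ : P ≤ N[Q])
    (hC : ∀ v, (∀ g ∈ P, φ g v = v) → ∀ g ∈ Q, φ g v = v) : ∀ g ∈ Q, ∀ v, φ g v = v := by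
  classical
  have := Fintype.ofFinite Q
  let N : V →* V := ∏ q : Q, (φ q : V →* V)
  have hN : ∀ v, N v = ∏ q : Q, φ q v := fun v => by simp [N, MonoidHom.finsetProd_apply]
  have hfix : ∀ g ∈ Q, ∀ v, φ g (N v) = N v := by
    intro g hg v
    rw [hN, map_prod]
    exact Fintype.prod_equiv (Equiv.mulLeft (⟨g, hg⟩ : Q)) _ _ fun q => by simp
  have hequiv : ∀ g ∈ P, ∀ v, N (φ g v) = φ g (N v) := by
    intro g hg v
    rw [hN, hN, map_prod]
    refine (Fintype.prod_equiv (normalizerMonoidHom Q ⟨g, hPQ hg⟩).toEquiv _ _ fun q => ?_).symm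
    change φ g (φ q v) = φ (g * q * g⁻¹) (φ g v)
    simp
  by_cases hk : N.ker = ⊥
  · intro g hg v
    obtain ⟨w, rfl⟩ := Finite.injective_iff_surjective.1 ((MonoidHom.ker_eq_bot_iff N).1 hk) v
    exact hfix g hg w
  exfalso
  let act : MulAction P N.ker :=
    { smul := fun g v => ⟨φ g v, by
        rw [MonoidHom.mem_ker, hequiv g g.2, (MonoidHom.mem_ker).1 v.2, map_one]⟩
      one_smul := fun v => Subtype.ext (by change φ (1 : P) v = v; simp)
      mul_smul := fun g k v => Subtype.ext (by change φ (g * k : P) v = φ g (φ k v); simp) }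
  obtain ⟨v, hv, hne⟩ := hP.exists_fixed_point_of_prime_dvd_card_of_fixed_point N.ker
    (pgroup_pdiv (hV.to_subgroup _) hk) (a := 1)
    (fun g => Subtype.ext (by change φ g 1 = 1; simp))
  have h1 : ∀ g ∈ Q, φ g v = v := hC v fun g hg => congrArg Subtype.val (hv ⟨g, hg⟩)
  have h2 : (v : V) ^ #Q = 1 := by
    rw [← (MonoidHom.mem_ker).1 v.2, hN, Finset.prod_congr rfl fun (q : Q) _ => h1 q q.2,
      Finset.prod_const, Finset.card_univ, Nat.card_eq_fintype_card]
  obtain ⟨k, hk⟩ := hV (v : V)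
  exact hne (Subtype.ext (orderOf_eq_one_iff.1 (Nat.eq_one_of_dvd_coprimes (hQ.pow_right k)
    (orderOf_dvd_of_pow_eq_one h2) (orderOf_dvd_of_pow_eq_one hk))).symm)

/-- Bender's lemma. -/
theorem bender_PQ [Finite G] {p : ℕ} [hp : Fact p.Prime] (hp2 : p ≠ 2) {P Q K : Subgroup G}
    (hP : IsPGroup p P) (hQ : (#Q).Coprime p) (hPQ : P ≤ N[Q]) (hK : IsPGroup p K)
    (hPK : P ≤ N[K]) (hQK : Q ≤ N[K]) (hC : K ⊓ C[P] ≤ C[Q]) : Q ≤ C[K] := by
  induction K using WellFoundedLT.induction with
  | ind K ih =>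
  by_contra hnt
  obtain ⟨-, -, h3, h4, -, h6⟩ := minimal_action (A := Q) (B := P ⊔ Q) hK (sup_le hPK hQK)
    le_sup_right (sup_le hPQ (normG Q)) hQ (fun h => hnt (commG1'.1 h)) fun U hU hn =>
      commG1'.2 (ih U hU (hK.to_le hU.le) (le_sup_left.trans hn) (le_sup_right.trans hn)
        ((inf_le_inf_right _ hU.le).trans hC))
  let D : BaerData K := baerData (hp.out.odd_of_ne_two hp2)
    (fun x y z => Subtype.ext
      (((h3.ge.trans h4) (commutator_mem_commutator x.2 y.2)).2 z z.2).symm)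
    (fun x y => Subtype.ext (h6 hp2 _ (⁅x, y⁆).2))
  have hV : IsPGroup p (Baer D) := fun v => ⟨1, Baer.val_injective (by
    rw [Baer.val_pow, pow_one]; exact Subtype.ext (h6 hp2 _ v.val.2))⟩
  have := bender_abelian hV ((Baer.aut D).comp (normalizerMonoidHom K))
    (P := P.subgroupOf N[K]) (Q := Q.subgroupOf N[K]) (Loc.isPGroup_subgroupOf hP _)
    (by rwa [card_subgroupOf hQK]) (norms_subgroupOf _ hPQ) (fun v hv g hg => by
      have h1 : (v.val : G) ∈ C[P] := fun x hx => by
        have := congrArg (fun w => ((Baer.val w : K) : G)) (hv ⟨x, hPK hx⟩ hx)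
        exact mul_inv_eq_iff_eq_mul.1 this
      have h2 := hC ⟨v.val.2, h1⟩ g hg
      exact Baer.val_injective (Subtype.ext (mul_inv_eq_iff_eq_mul.2 h2)))
  refine hnt fun g hg x hx => ?_
  have := congrArg (fun w => ((Baer.val w : K) : G)) (this ⟨g, hQK hg⟩ hg (Baer.mk D ⟨x, hx⟩))
  exact (mul_inv_eq_iff_eq_mul.1 this).symm

end Cfsg.Agent.Gen
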