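import Cfsg.Agent.PGrp.Basic
import Cfsg.Agent.S0016

/-! `p`-groups in which subgroups of equal order are isomorphic are cyclic, elementary abelian, `Q₈` or
non-abelian of order `p³` and exponent `p` (`eqOrder_cases`); small abelian / non-abelian subgroups of groups of
exponent `p`. -/

set_option autoImplicit false

namespace Cfsg.Agent.Gen

open Subgroup Function
open scoped commutatorElement

variable {X : Type*} [Group X] {p : ℕ}

/-- `g ↦ ⁅w, g⁆` for `w` in the second centre -/
def commHom (w : X) (h : ∀ g, ⁅w, g⁆ ∈ center X) : X →* X :=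
  MonoidHom.mk' (fun g => ⁅w, g⁆) fun _ _ => PGrp.commutator_mul_right (PGrp.commute_of_mem_center (h _) _)

theorem ker_commHom (w : X) (h : ∀ g, ⁅w, g⁆ ∈ center X) : (commHom w h).ker = centralizer {w} := by
  ext g
  rw [mem_centralizer_singleton_iff, eq_comm]
  exact commutatorElement_eq_one_iff_mul_comm

theorem index_centralizer_le [Finite X] {w : X} {Z : Subgroup X} (hZ : Z ≤ center X) (h : ∀ g, ⁅w, g⁆ ∈ Z) :
    (centralizer ({w} : Set X)).index ≤ Nat.card Z := by
  rw [← ker_commHom w fun g => hZ (h g), index_ker]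
  exact card_le_of_le (by rintro _ ⟨g, rfl⟩; exact h g)

theorem exists_central_orderOf [Finite X] [Fact p.Prime] [Nontrivial X] (hX : IsPGroup p X) :
    ∃ z ∈ center X, orderOf z = p := by
  have := hX.center_nontrivial
  obtain ⟨z, hz⟩ := exists_prime_orderOf_dvd_card' (G := center X) p
    ((hX.to_subgroup _).card_eq_or_dvd.resolve_left Finite.one_lt_card.ne')
  exact ⟨z, z.2, by rwa [orderOf_coe]⟩

theorem normal_of_le_center {Z : Subgroup X} (hZ : Z ≤ center X) : Z.Normal :=
  ⟨fun n hn g => by rwa [mem_center_iff.1 (hZ hn) g, mul_inv_cancel_right]⟩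

/-- a group of exponent `p` and order more than `p³` has an abelian subgroup of order `p³` -/
theorem exists_abelian_card_cube [Finite X] [hp : Fact p.Prime] (hX : ∀ x : X, x ^ p = 1) (h : p ^ 3 < Nat.card X) :
    ∃ A : Subgroup X, IsMulCommutative A ∧ Nat.card A = p ^ 3 := by
  have hX' : IsPGroup p X := fun x => ⟨1, by simpa using hX x⟩
  have h1 := hp.out.one_lt
  have : Nontrivial X := Finite.one_lt_card_iff_nontrivial.1 ((Nat.one_le_pow _ _ hp.out.pos).trans_lt h)
  obtain ⟨z, hz, hzp⟩ := exists_central_orderOf hX'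
  have := normal_of_le_center (zpowers_le.2 hz)
  have := hX'.isNilpotent
  have hc : Nat.card (zpowers z) = p := by rw [Nat.card_zpowers, hzp]
  obtain ⟨w, -, hw, hw'⟩ := PGrp.exists_central_mod (M := zpowers z) (N := ⊤) fun e => by
    have := card_le_of_le e
    rw [hc, card_top] at this
    exact absurd (h.trans_le this) (not_lt.2 (Nat.le_self_pow (by norm_num) p))
  have h2 := PGrp.card_sup_zpowers hp.out (le_normalizer_of_normal (mem_top w)) hw (hX w ▸ one_mem _)
  have h3 := index_centralizer_le (zpowers_le.2 hz) hw'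
  have h4 := (centralizer ({w} : Set X)).card_mul_index
  obtain ⟨u, hu, hu'⟩ : ∃ u ∈ centralizer ({w} : Set X), u ∉ zpowers z ⊔ zpowers w := by
    by_contra h5
    push Not at h5
    have := card_le_of_le (show centralizer {w} ≤ _ from h5)
    rw [h2, hc] at this
    rw [hc] at h3
    nlinarith [Nat.mul_le_mul this h3]
  have h5 : IsMulCommutative (zpowers z ⊔ zpowers w : Subgroup X) :=
    PGrp.isMulCommutative_sup_zpowers fun y hy => (mem_center_iff.1 (zpowers_le.2 hz hy) w).symm
  have h6 : u ∈ centralizer ((zpowers z ⊔ zpowers w : Subgroup X) : Set X) := by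
    rw [← zpowers_le, le_centralizer_iff, sup_le_iff, zpowers_le, zpowers_le]
    exact ⟨center_le_centralizer _ hz, zpowers_le.1 (le_centralizer_iff.1 (by
      rwa [zpowers_le, zpowers_eq_closure, centralizer_closure]))⟩
  exact ⟨_, PGrp.isMulCommutative_sup_zpowers h6, by
    rw [PGrp.card_sup_zpowers hp.out (centralizer_le_normalizer _ h6) hu' (hX u ▸ one_mem _), h2, hc]; ring⟩

/-- a non-abelian group of exponent `p` has a non-abelian subgroup of order `p³` -/
theorem exists_nonabelian_card_cube [Finite X] [hp : Fact p.Prime] (hX : ∀ x : X, x ^ p = 1)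
    (h : ¬ IsMulCommutative X) : ∃ A : Subgroup X, ¬ IsMulCommutative A ∧ Nat.card A = p ^ 3 := by
  have hX' : IsPGroup p X := fun x => ⟨1, by simpa using hX x⟩
  have := hX'.isNilpotent
  obtain ⟨x, -, hx, hx'⟩ := PGrp.exists_central_mod (M := center X) (N := ⊤) fun e =>
    h ⟨⟨fun a b => mem_center_iff.1 (e (mem_top b)) a⟩⟩
  obtain ⟨y, hy⟩ : ∃ y : X, ⁅x, y⁆ ≠ 1 := by
    by_contra h1
    push Not at h1
    exact hx (mem_center_iff.2 fun g => (commutatorElement_eq_one_iff_mul_comm.1 (h1 g)).symm)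
  have hz := zpowers_le.2 (hx' y)
  have := normal_of_le_center hz
  have h1 := PGrp.card_sup_zpowers hp.out (H := zpowers ⁅x, y⁆) (le_normalizer_of_normal (mem_top x))
    (fun e => hx (hz e)) (hX x ▸ one_mem _)
  have h2 : zpowers ⁅x, y⁆ ⊔ zpowers x ≤ centralizer {x} :=
    sup_le (hz.trans (center_le_centralizer _)) (zpowers_le.2 (mem_centralizer_singleton_iff.2 rfl))
  have h3 : y ∈ normalizer ((zpowers ⁅x, y⁆ ⊔ zpowers x : Subgroup X) : Set X) := by
    refine mem_normalizer_fintype fun g hg => ?_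
    obtain ⟨c, hc, i, rfl⟩ := (PGrp.mem_sup_zpowers (le_normalizer_of_normal (mem_top x))).1 hg
    have e : y * (c * x ^ i) * y⁻¹ = c * (⁅x, y⁆⁻¹ * x) ^ i := by
      rw [← mul_assoc, mem_center_iff.1 (hz hc) y, mul_assoc c, mul_assoc c, ← conj_zpow]
      simp [commutatorElement_def, mul_assoc]
    rw [SetLike.mem_coe, e]
    exact mul_mem (mem_sup_left hc) (zpow_mem (mul_mem (mem_sup_left (inv_mem (mem_zpowers _)))
      (mem_sup_right (mem_zpowers _))) _)
  refine ⟨zpowers ⁅x, y⁆ ⊔ zpowers x ⊔ zpowers y, fun hc => hy (commutatorElement_eq_one_iff_mul_comm.2 ?_), ?_⟩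
  · exact setLike_mul_comm (s := zpowers ⁅x, y⁆ ⊔ zpowers x ⊔ zpowers y)
      (mem_sup_left (mem_sup_right (mem_zpowers x))) (mem_sup_right (mem_zpowers y))
  · rw [PGrp.card_sup_zpowers hp.out h3 (fun e => hy (commutatorElement_eq_one_iff_mul_comm.2
      (mem_centralizer_singleton_iff.1 (h2 e)).symm)) (hX y ▸ one_mem _), h1,
      PGrp.card_zpowers_of_pow_eq_one (hX _) hy]
    ring

/-- two subgroups of order `p` give an elementary abelian subgroup of order `p²` -/
theorem exists_elementary_sq [Finite X] [hp : Fact p.Prime] (hX : IsPGroup p X) {H K : Subgroup X}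
    (hH : Nat.card H = p) (hK : Nat.card K = p) (hHK : H ≠ K) :
    ∃ E : Subgroup X, Nat.card E = p ^ 2 ∧ ∀ x ∈ E, x ^ p = 1 := by
  have : Nontrivial X := Finite.one_lt_card_iff_nontrivial.1
    (hp.out.one_lt.trans_le (hH ▸ card_le_card_group H))
  obtain ⟨z, hz, hzp⟩ := exists_central_orderOf hX
  have hc : Nat.card (zpowers z) = p := by rw [Nat.card_zpowers, hzp]
  obtain ⟨y, hy, hy'⟩ : ∃ y, y ∉ zpowers z ∧ y ^ p = 1 := by
    by_contra h
    push Not at h
    have : ∀ L : Subgroup X, Nat.card L = p → L = zpowers z := fun L hL =>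
      eq_of_le_of_card_ge (fun y hy => by_contra fun h1 => h y h1
        (orderOf_dvd_iff_pow_eq_one.1 (hL ▸ L.orderOf_dvd_natCard hy))) (hc.trans hL.symm).le
    exact hHK ((this H hH).trans (this K hK).symm)
  have := normal_of_le_center (zpowers_le.2 hz)
  refine ⟨zpowers z ⊔ zpowers y, ?_, fun x hx => ?_⟩
  · rw [PGrp.card_sup_zpowers hp.out (le_normalizer_of_normal (mem_top y)) hy (hy' ▸ one_mem _), hc, sq]
  · obtain ⟨c, hc', i, rfl⟩ := (PGrp.mem_sup_zpowers (le_normalizer_of_normal (mem_top y))).1 hx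
    rw [(PGrp.commute_of_mem_center (zpowers_le.2 hz hc') _).mul_pow,
      orderOf_dvd_iff_pow_eq_one.1 (hc ▸ orderOf_dvd_natCard _ hc'), ← zpow_natCast, ← zpow_mul, mul_comm i,
      zpow_mul, zpow_natCast, hy', one_zpow, mul_one]

theorem exists_orderOf_sq [hp : Fact p.Prime] (hX : IsPGroup p X) {x : X} (hx : x ^ p ≠ 1) :
    ∃ y ∈ zpowers x, orderOf y = p ^ 2 := by
  obtain ⟨k, hk⟩ := IsPGroup.iff_orderOf.1 hX x
  have h2 : 2 ≤ k := by
    by_contra h
    exact hx (orderOf_dvd_iff_pow_eq_one.1 (hk ▸ by simpa using pow_dvd_pow p (show k ≤ 1 by omega)))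
  exact ⟨x ^ (orderOf x / p ^ 2), pow_mem (mem_zpowers x) _,
    orderOf_pow_orderOf_div (hk ▸ pow_ne_zero _ hp.out.ne_zero) (hk ▸ pow_dvd_pow p h2)⟩

open QuaternionGroup in
/-- the parity homomorphism of `Q_{4n}`, `n` even -/
def quatParity (n : ℕ) (hn : (n : ZMod 2) = 0) : QuaternionGroup n →* Multiplicative (ZMod 2) :=
  MonoidHom.mk' (fun
    | a i => Multiplicative.ofAdd (ZMod.castHom (dvd_mul_right 2 n) (ZMod 2) i)
    | xa i => Multiplicative.ofAdd (ZMod.castHom (dvd_mul_right 2 n) (ZMod 2) i)) (by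
    have h : ∀ x y : ZMod 2, y - x = x + y := by decide
    rintro (i | i) (j | j)
    · show Multiplicative.ofAdd _ = Multiplicative.ofAdd _
      rw [map_add]; rfl
    · show Multiplicative.ofAdd _ = Multiplicative.ofAdd _
      rw [map_sub, h]; rfl
    · show Multiplicative.ofAdd _ = Multiplicative.ofAdd _
      rw [map_add]; rfl
    · show Multiplicative.ofAdd _ = Multiplicative.ofAdd _
      rw [map_sub, map_add, map_natCast, hn, zero_add, h]; rfl)

open QuaternionGroup in
theorem exists_noncomm_quaternion (n : ℕ) : ∃ K : Subgroup (QuaternionGroup (2 ^ (n + 2))),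
    Nat.card K = 2 * 2 ^ (n + 2) ∧ ¬ IsMulCommutative K := by
  have hn : ((2 ^ (n + 2) : ℕ) : ZMod 2) = 0 := (ZMod.natCast_eq_zero_iff _ _).2 (dvd_pow_self 2 (by omega))
  refine ⟨(quatParity _ hn).ker, ?_, fun h => ?_⟩
  · have h1 := (quatParity _ hn).ker.card_mul_index
    have h2 : (quatParity _ hn).range = ⊤ := by
      rw [eq_top_iff]
      intro x _
      obtain ⟨j, hj⟩ := ZMod.castHom_surjective (dvd_mul_right 2 (2 ^ (n + 2))) x.toAdd
      exact ⟨a j, congrArg Multiplicative.ofAdd hj⟩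
    rw [index_ker, h2, card_top, Nat.card_eq_fintype_card (α := QuaternionGroup _), QuaternionGroup.card] at h1
    simp only [Nat.card_eq_fintype_card, Fintype.card_multiplicative, ZMod.card] at h1 ⊢
    omega
  · have h1 : a 2 ∈ (quatParity _ hn).ker := by
      show Multiplicative.ofAdd _ = Multiplicative.ofAdd _
      rw [map_ofNat]; rfl
    have h2 : xa 0 ∈ (quatParity _ hn).ker := by
      show Multiplicative.ofAdd _ = Multiplicative.ofAdd _
      rw [map_zero]
    have h3 := setLike_mul_comm (s := (quatParity _ hn).ker) h1 h2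
    simp only [a_mul_xa, xa_mul_a, xa.injEq] at h3
    have h4 : ((4 : ℕ) : ZMod (2 * 2 ^ (n + 2))) = 0 := by push_cast; linear_combination -h3
    have h5 := Nat.le_of_dvd (by norm_num) ((ZMod.natCast_eq_zero_iff _ _).1 h4)
    have := Nat.one_le_two_pow (n := n)
    rw [pow_add] at h5
    omega

theorem isMulCommutative_of_equiv {Y : Type*} [Group Y] (e : X ≃* Y) [IsMulCommutative X] : IsMulCommutative Y :=
  ⟨⟨fun x y => e.symm.injective (by rw [map_mul, map_mul, mul_comm'])⟩⟩

theorem eqOrder_cases [Finite X] [hp : Fact p.Prime] (hX : IsPGroup p X)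
    (h : ∀ H K : Subgroup X, Nat.card H = Nat.card K → Nonempty (H ≃* K)) :
    IsCyclic X ∨ (IsMulCommutative X ∧ ∀ x : X, x ^ p = 1) ∨ (p = 2 ∧ Nonempty (X ≃* QuaternionGroup 2)) ∨
      (p ≠ 2 ∧ ¬ IsMulCommutative X ∧ Nat.card X = p ^ 3 ∧ ∀ x : X, x ^ p = 1) := by
  by_cases hu : ∀ H K : Subgroup X, Nat.card H = p → Nat.card K = p → H = K
  · rcases S0016.result p hX hu with h1 | ⟨rfl, n, ⟨e⟩⟩
    · exact Or.inl h1
    match n, e with
    | 0, e => exact Or.inl (e.isCyclic.2 QuaternionGroup.quaternionGroup_one_isCyclic)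
    | 1, e => exact Or.inr (Or.inr (Or.inl ⟨rfl, ⟨e⟩⟩))
    | n + 2, e =>
      obtain ⟨K, h1, h2⟩ := exists_noncomm_quaternion n
      obtain ⟨f⟩ := h (zpowers (e.symm (.a 1))) (K.map e.symm) (by
        rw [Nat.card_zpowers, MulEquiv.orderOf_eq, QuaternionGroup.orderOf_a_one, ← h1]
        exact Nat.card_congr (e.symm.subgroupMap K).toEquiv)
      exact absurd (isMulCommutative_of_equiv (f.trans (e.symm.subgroupMap K).symm)) h2
  push Not at hu
  obtain ⟨H, K, hH, hK, hHK⟩ := hu
  obtain ⟨E, hE, hE'⟩ := exists_elementary_sq hX hH hK hHK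
  have h1 : ∀ x : X, x ^ p = 1 := fun x => by
    by_contra hx
    obtain ⟨y, -, hy⟩ := exists_orderOf_sq hX hx
    obtain ⟨f⟩ := h (zpowers y) E (by rw [Nat.card_zpowers, hy, hE])
    have h2 : orderOf (f ⟨y, mem_zpowers y⟩) ∣ p :=
      orderOf_dvd_of_pow_eq_one (Subtype.ext (hE' _ (f ⟨y, mem_zpowers y⟩).2))
    rw [MulEquiv.orderOf_eq, orderOf_mk, hy] at h2
    have := Nat.le_of_dvd hp.out.pos h2
    have := hp.out.one_lt
    nlinarith
  by_cases hc : IsMulCommutative X
  · exact Or.inr (Or.inl ⟨hc, h1⟩)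
  refine Or.inr (Or.inr (Or.inr ⟨?_, hc, ?_, h1⟩))
  · rintro rfl
    exact hc ⟨⟨fun x y => (Commute.of_orderOf_dvd_two (fun g => orderOf_dvd_of_pow_eq_one (h1 g)) x y).eq⟩⟩
  · obtain ⟨A, hA, hA'⟩ := exists_nonabelian_card_cube h1 hc
    refine le_antisymm (not_lt.1 fun h2 => ?_) (hA' ▸ card_le_card_group A)
    obtain ⟨B, hB, hB'⟩ := exists_abelian_card_cube h1 h2
    obtain ⟨f⟩ := h B A (hB'.trans hA'.symm)
    exact hA (isMulCommutative_of_equiv f)

theorem eqOrder_cases_of_conj {G : Type*} [Group G] [Finite G] [hp : Fact p.Prime]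
    (hC : ∀ H K : Subgroup G, IsPGroup p H → IsPGroup p K → Nat.card H = Nat.card K →
      ∃ g : G, K = H.map (MulAut.conj g).toMonoidHom) {X : Subgroup G} (hX : IsPGroup p X) :
    IsCyclic X ∨ (IsMulCommutative X ∧ ∀ x : X, x ^ p = 1) ∨ (p = 2 ∧ Nonempty (X ≃* QuaternionGroup 2)) ∨
      (p ≠ 2 ∧ ¬ IsMulCommutative X ∧ Nat.card X = p ^ 3 ∧ ∀ x : X, x ^ p = 1) :=
  eqOrder_cases hX fun H K h => by
    obtain ⟨g, hg⟩ := hC (H.map X.subtype) (K.map X.subtype) ((hX.to_subgroup H).map _) ((hX.to_subgroup K).map _)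
      (by rw [card_map_of_injective X.subtype_injective, card_map_of_injective X.subtype_injective, h])
    exact ⟨(H.equivMapOfInjective _ X.subtype_injective).trans (((MulAut.conj g).subgroupMap _).trans
      ((MulEquiv.subgroupCongr hg.symm).trans (K.equivMapOfInjective _ X.subtype_injective).symm))⟩

end Cfsg.Agent.Gen
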