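import Cfsg.Agent.Golay.Stab
import Cfsg.Agent.BG.S1
import Mathlib.GroupTheory.SpecificGroups.Alternating.Simple

/-! `GL₄(2) ≅ A₈` (`gl4_equiv`), read off from the octad stabiliser `2⁴ : A₈` of `M₂₄`; automorphism groups of
elementary abelian groups of order at most 16 embed in `A₈` (`aut_embed`). -/

set_option autoImplicit false
open Cfsg

namespace Cfsg.Agent.Gen
open Subgroup Cfsg.Agent.BG Cfsg.Agent.Comp Cfsg.Agent.Golay MulAction
open scoped Pointwise

theorem card_GL4 : Nat.card (GL (Fin 4) (ZMod 2)) = 20160 := by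
  rw [Matrix.card_GL_field]
  simp [Fin.prod_univ_four]

theorem gl4_equiv : Nonempty (GL (Fin 4) (ZMod 2) ≃* alternatingGroup (Fin 8)) := by
  classical
  haveI : Fact (Nat.Prime 2) := ⟨Nat.prime_two⟩
  have ho := oct0_mem
  obtain ⟨p, hp⟩ : ∃ p, p ∉ oct0 := by
    by_contra h
    push Not at h
    have h1 := ho.2
    rw [Finset.eq_univ_of_forall h, Finset.card_univ] at h1
    exact absurd h1 (by decide)
  set K := stabilizer MG oct0 ⊓ stabilizer MG p with hK
  set E := fixF MG oct0 with hE
  have cK : #K = 20160 := card_stab_oct_out ho hp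
  have cE : #E = 16 := card_fixOct ho
  obtain ⟨e⟩ := equiv_alt_of_restr (K := K) (fun g hg => (Subgroup.mem_inf.1 hg).1)
    (fun g hg h => eq_one_of_fixOct ho h hp hg.2) ho.2 (by rw [cK]; rfl)
  have aE : Abelem 2 E := by
    refine ⟨abelian_of_cent (le_cent_iff.2 fun a ha b hb => ?_), fun a ha => by rw [pow_two, sq_fixOct ho ha]⟩
    have h1 := sq_fixOct ho (mul_mem ha hb)
    rw [← inv_eq_of_mul_eq_one_right h1, mul_inv_rev, inv_eq_of_mul_eq_one_right (sq_fixOct ho ha),
      inv_eq_of_mul_eq_one_right (sq_fixOct ho hb)]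
  have nE : K ≤ N[E] := le_norm_iff.2 fun g hg k hk => by
    have := conj_mem_fixF g hk
    rwa [show g • oct0 = oct0 from hg.1] at this
  obtain ⟨f, hf⟩ := abelemGL (⟨le_rfl, aE, cE⟩ : pnElem 2 4 E E)
  let φ : K →* GL (Fin 4) (ZMod 2) := f.comp ((conjAut E).comp (inclusion nE))
  haveI : IsSimpleGroup (alternatingGroup (Fin 8)) := alternatingGroup.isSimpleGroup (by simp)
  haveI : IsSimpleGroup K := e.isSimpleGroup
  have hφ : Function.Injective φ := by
    rw [← MonoidHom.ker_eq_bot_iff]
    refine (φ.normal_ker.eq_bot_or_eq_top).resolve_right fun h => ?_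
    have h2 : (orbit E p).ncard = 16 := by
      have := card_eq_ncard_orbit_mul E p
      rwa [cE, show E ⊓ stabilizer MG p = ⊥ from
        eq_bot_iff.2 fun g hg => eq_one_of_fixOct ho hg.1 hp hg.2, Subgroup.card_bot, mul_one, eq_comm] at this
    obtain ⟨T, hT, cT⟩ := Finset.exists_subset_card_eq (s := (orbit E p).toFinite.toFinset) (n := 6)
      (by rw [← Set.ncard_eq_toFinset_card, h2]; norm_num)
    have h3 : K ≤ fixF MG T := by
      intro k hk a ha
      obtain ⟨g, rfl⟩ := (Set.Finite.mem_toFinset _).1 (hT ha)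
      have h4 : conjAut E (inclusion nE ⟨k, hk⟩) = 1 := hf (by
        rw [map_one]; exact (h.ge (mem_top (⟨k, hk⟩ : K)) : φ _ = 1))
      have h5 := conjAut_apply E (inclusion nE ⟨k, hk⟩) g
      rw [h4] at h5
      have h6 : k * g = g * k := by
        calc k * g = (k * g * k⁻¹) * k := by group
          _ = g * k := by rw [show k * g * k⁻¹ = g from h5.symm]
      show k • (g : MG) • p = (g : MG) • p
      rw [← mul_smul, h6, mul_smul, show k • p = p from hk.2]
    have h4 := card_le_card h3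
    by_cases h5 : ∃ o ∈ octads, T ⊆ o
    · obtain ⟨o, h6, h7⟩ := h5
      rw [card_fix_six_in h6 cT h7] at h4
      omega
    · rw [card_fix_six_out cT h5] at h4
      omega
  exact ⟨(MulEquiv.ofBijective φ ((Nat.bijective_iff_injective_and_card φ).2
    ⟨hφ, by rw [cK, card_GL4]⟩)).symm.trans e⟩

/-- `Aut V → Aut (V × W)`. -/
def autProd (V W : Type*) [Group V] [Group W] : MulAut V →* MulAut (V × W) where
  toFun α := MulEquiv.prodCongr α (MulEquiv.refl W)
  map_one' := rfl
  map_mul' _ _ := rfl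

theorem autProd_injective (V W : Type*) [Group V] [Group W] : Function.Injective (autProd V W) :=
  fun α β h => MulEquiv.ext fun v => congrArg Prod.fst (DFunLike.congr_fun h (v, 1))

theorem aut_embed {V : Type*} [Group V] [Finite V] (hV : ∀ v : V, v ^ 2 = 1) (hc : Nat.card V ≤ 16) :
    ∃ f : MulAut V →* alternatingGroup (Fin 8), Function.Injective f := by
  haveI : Fact (Nat.Prime 2) := ⟨Nat.prime_two⟩
  letI : CommGroup V := { (inferInstance : Group V) with
    mul_comm := fun a b => by
      have h : ∀ v : V, v⁻¹ = v := fun v => inv_eq_of_mul_eq_one_right (by rw [← pow_two, hV])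
      rw [← h (a * b), mul_inv_rev, h, h] }
  obtain ⟨n, hn⟩ := IsPGroup.iff_card.1 (show IsPGroup 2 V from fun v => ⟨1, hV v⟩)
  have h4 : n ≤ 4 := (Nat.pow_le_pow_iff_right (by norm_num : 1 < 2)).1 (by omega)
  obtain ⟨f, hf⟩ := commGroup_GL (p := 2) (n := 4) (V := V × Multiplicative (Fin (4 - n) → ZMod 2))
    (fun v => Prod.ext (hV v.1) (by
      show v.2 ^ 2 = 1
      rw [← ofAdd_toAdd v.2, ← ofAdd_nsmul, ofAdd_eq_one]
      ext i
      rw [two_nsmul]
      exact CharTwo.add_self_eq_zero _))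
    (by rw [Nat.card_prod, hn]; simp [← pow_add, h4])
  obtain ⟨e⟩ := gl4_equiv
  exact ⟨e.toMonoidHom.comp (f.comp (autProd _ _)), e.injective.comp (hf.comp (autProd_injective _ _))⟩

end Cfsg.Agent.Gen
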